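import Groth.Agent.Sga4h.LAcyc
import Groth.Agent.S0162
import Groth.Agent.S0712
import Groth.Agent.Sga5.ProjSmooth
import Groth.Agent.CohqA.ProjDim
import Groth.Agent.Ega3B.ProjProper
import Groth.Agent.EtpbcA.CdTwoDim
import Groth.Agent.EtpbcA.CdEtLeray
import Groth.Agent.Sga5.HcConst
import Groth.Prelude.Def_VanCyc
import Groth.Prelude.Def_CohB1
import Mathlib.AlgebraicGeometry.Morphisms.Smooth

/-!
# Vanishing of `H^q(P^m × W_Ω, Z/N)` for `q > 2m`, `W` a strict localization of a smooth scheme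

* `subsingleton_H_projSpace`: for `T` over a separably closed field with `H^q(T, Z/N) = 0` for `q > 0`,
  `H^q(P^m_T, Z/N) = 0` for `q > 2m` (smooth base change along `P^m_Ω ⟶ Spec Ω` and `cd(P^m_Ω) ≤ 2m`);
* `projSpace_van`: the case of the geometric generic fibre of a strict localization of a smooth
  scheme over a strictly henselian ring (local acyclicity of smooth morphisms).
-/

set_option autoImplicit false
universe u
open CategoryTheory CategoryTheory.Limits AlgebraicGeometry Opposite IsLocalRing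

namespace Groth.Agent.Vancyc.H431.ProjVan

open Groth.Agent.Etrest.StrictLoc Groth.Agent.Sga4h.StalkAcyc Groth.Agent.Sga4h.SLoc
  Groth.Agent.EtpbcA.CdEtLeray CohB1

/-- `P^m_T ⟶ P^m_S`. -/
noncomputable def pm (m : ℕ) {T S : Scheme.{u}} (t : T ⟶ S) : ProjSpaceOver m T ⟶ ProjSpaceOver m S :=
  pullback.lift (pullback.fst (ProjSpace.toSpec m (ULift.{u} ℤ)) (specULiftZIsTerminal.from T))
    (pullback.snd (ProjSpace.toSpec m (ULift.{u} ℤ)) (specULiftZIsTerminal.from T) ≫ t)
    (specULiftZIsTerminal.hom_ext _ _)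

theorem isPullback_pm (m : ℕ) {T S : Scheme.{u}} (t : T ⟶ S) :
    IsPullback (ProjSpaceOver.toBase m T) (pm m t) t (ProjSpaceOver.toBase m S) := by
  have h1 : IsPullback (pullback.fst (ProjSpace.toSpec m (ULift.{u} ℤ)) (specULiftZIsTerminal.from S))
      (ProjSpaceOver.toBase m S)
      (ProjSpace.toSpec m (ULift.{u} ℤ)) (specULiftZIsTerminal.from S) :=
    IsPullback.of_hasPullback _ _
  have h2 : IsPullback (pm m t ≫ pullback.fst (ProjSpace.toSpec m (ULift.{u} ℤ))
      (specULiftZIsTerminal.from S)) (ProjSpaceOver.toBase m T)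
      (ProjSpace.toSpec m (ULift.{u} ℤ)) (t ≫ specULiftZIsTerminal.from S) := by
    have e1 : pm m t ≫ pullback.fst (ProjSpace.toSpec m (ULift.{u} ℤ)) (specULiftZIsTerminal.from S) =
        pullback.fst (ProjSpace.toSpec m (ULift.{u} ℤ)) (specULiftZIsTerminal.from T) :=
      pullback.lift_fst _ _ _
    rw [e1, specULiftZIsTerminal.hom_ext (t ≫ specULiftZIsTerminal.from S)
      (specULiftZIsTerminal.from T)]
    exact IsPullback.of_hasPullback _ _
  exact (IsPullback.of_right h2 (pullback.lift_snd _ _ _) h1).flip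

theorem smooth_toBase (m : ℕ) (S : Scheme.{u}) : Smooth (ProjSpaceOver.toBase m S) := by
  have h1 : Smooth (ProjSpace.toSpec m (ULift.{u} ℤ)) :=
    SmoothOfRelativeDimension.smooth m _
  exact inferInstanceAs (Smooth (pullback.snd (ProjSpace.toSpec m (ULift.{u} ℤ))
    (specULiftZIsTerminal.from S)))

theorem isProper_toBase (m : ℕ) (S : Scheme.{u}) : IsProper (ProjSpaceOver.toBase m S) := by
  have h1 : IsProper (ProjSpace.toSpec m (ULift.{u} ℤ)) := Groth.Agent.Ega3B.ProjProper.isProper_toSpec m _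
  exact inferInstanceAs (IsProper (pullback.snd (ProjSpace.toSpec m (ULift.{u} ℤ))
    (specULiftZIsTerminal.from S)))

theorem dim_le (m : ℕ) (k : Type u) [Field k] :
    topologicalKrullDim (ProjSpaceOver m (Spec (CommRingCat.of k))) ≤ m := by
  let e := Groth.Agent.CohqB.ProjBC.projSpaceOverIso m k
  exact (e.hom.homeomorph.isHomeomorph.topologicalKrullDim_eq).trans_le
    (Groth.Agent.CohqA.ProjDim.topologicalKrullDim_le k m)

theorem killedBy_const (X : Scheme.{u}) (N : ℕ) : EtCoh.KilledBy N (EtCoh.const X (ZMod N)) :=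
  Groth.Agent.Sga5.HcConst.killedBy_const X N _ (Groth.Agent.Sga5.HcConst.zmod_nsmul N)

theorem isZero_Rpush_of_field {Ω : Type u} [Field Ω] [IsSepClosed Ω] {T : Scheme.{u}}
    (t : T ⟶ Spec (CommRingCat.of Ω)) [QuasiCompact t] [QuasiSeparated t] (N : ℕ)
    (q : ℕ) (hT : Subsingleton (EtCoh.H T (EtCoh.const T (ZMod N)) q)) :
    IsZero ((EtCoh.Rpush t q).obj (EtCoh.const T (ZMod N))) := by
  have h3 : IsSepClosed (ResidueField Ω) := Groth.Agent.Etrest.SHPoint.isSepClosed_residueField Ω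
  have hξ : IsStrictLoc (𝟙 (Spec (CommRingCat.of Ω))) := isStrictLoc_id Ω
  refine Groth.Agent.Etcore.Stalks.isZero_of_stalks _ fun y => ?_
  refine ⟨ResidueField Ω, inferInstance, inferInstance, resPt Ω ≫ 𝟙 _, Subsingleton.elim _ _, ?_⟩
  obtain ⟨e⟩ := nonempty_stalk_iso_const t _ (ZMod N) (Iso.refl _) hξ q
  obtain ⟨e1⟩ := Groth.Agent.Etrest.HConstIso.nonempty_HConst
    (asIso (pullback.fst t (𝟙 (Spec (CommRingCat.of Ω))))) (ZMod N) q
  have : Subsingleton (EtCoh.H (pullback t (𝟙 (Spec (CommRingCat.of Ω))))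
      (EtCoh.const (pullback t (𝟙 (Spec (CommRingCat.of Ω)))) (ZMod N)) q) :=
    e1.symm.toEquiv.subsingleton
  exact (AddCommGrpCat.isZero_of_subsingleton _).of_iso e

/-- `H^q(P^m_T, Z/N) = 0` for `q > 2m` if `T` is acyclic over a separably closed field. -/
theorem subsingleton_H_projSpace {Ω : Type u} [Field Ω] [IsSepClosed Ω] {T : Scheme.{u}}
    (t : T ⟶ Spec (CommRingCat.of Ω)) [QuasiCompact t] [QuasiSeparated t] (N : ℕ) (hN : (N : Ω) ≠ 0)
    (hT : ∀ q : ℕ, 0 < q → Subsingleton (EtCoh.H T (EtCoh.const T (ZMod N)) q)) (m q : ℕ)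
    (hq : 2 * m < q) :
    Subsingleton (EtCoh.H (ProjSpaceOver m T) (EtCoh.const (ProjSpaceOver m T) (ZMod N)) q) := by
  have hsm := smooth_toBase m (Spec (CommRingCat.of Ω))
  have hpr := isProper_toBase m (Spec (CommRingCat.of Ω))
  have sq := isPullback_pm m t
  have hqc : QuasiCompact (pm m t) := MorphismProperty.of_isPullback (P := @QuasiCompact) sq.flip.flip ‹_›
  have hqs : QuasiSeparated (pm m t) := MorphismProperty.of_isPullback (P := @QuasiSeparated) sq.flip.flip ‹_›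
  have hunit : IsUnit (N : Γ(Spec (CommRingCat.of Ω), ⊤)) := by
    have h1 := (hN.isUnit).map (Scheme.ΓSpecIso (CommRingCat.of Ω)).inv.hom
    rwa [map_natCast] at h1
  have hF : EtPBC.IsTorsionInvertibleOn (Spec (CommRingCat.of Ω)) (EtCoh.const T (ZMod N)) :=
    fun U s x => ⟨U, 𝟙 U, N, ⟨x, rfl⟩, hunit, by rw [killedBy_const]⟩
  have hz : ∀ b : ℕ, IsZero ((EtCoh.Rpush (pm m t) (b + 1)).obj
      (EtCoh.const (ProjSpaceOver m T) (ZMod N))) := fun b => by
    obtain ⟨⟨e⟩, -⟩ := Groth.Agent.S0162.result (ProjSpaceOver.toBase m (Spec (CommRingCat.of Ω))) t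
      (pm m t) (ProjSpaceOver.toBase m T) sq _ hF (b + 1)
    have h1 := isZero_Rpush_of_field t N (b + 1) (hT _ b.succ_pos)
    have h2 := ((EtCoh.pull (ProjSpaceOver.toBase m (Spec (CommRingCat.of Ω)))).map_isZero h1).of_iso e.symm
    exact h2.of_iso ((EtCoh.Rpush (pm m t) (b + 1)).mapIso
      (EtCore.pullConst (ProjSpaceOver.toBase m T) (ZMod N)).symm)
  refine H_subsingleton_of_leray (pm m t) _ q ?_ fun a b hab => ?_
  · refine Groth.Agent.EtpbcA.CdTwoDim.cohDimLE_two_mul (ProjSpaceOver m (Spec (CommRingCat.of Ω)))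
      (ProjSpaceOver.toBase m _) m (dim_le m Ω) _ ?_ q hq
    have hN0 : N ≠ 0 := fun h => hN (by rw [h, Nat.cast_zero])
    exact Groth.Agent.Sga5.HcConst.isTorsion_of_killedBy N hN0 _ fun U s =>
      killedBy_const (ProjSpaceOver m T) N _ s
  · exact H_subsingleton_of_isZero (hz b) a

/-- `H^q(P^m × W_Ω, Z/N) = 0` for `q > 2m`, `W` a strict localization of a smooth scheme over a
strictly henselian local ring. -/
theorem projSpace_van (R Ω : Type u) [CommRing R] [IsLocalRing R]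
    (hR : EtCoh.IsStrictlyHenselianLocalRing R) [Field Ω] [IsSepClosed Ω] [Algebra R Ω]
    {P : Scheme.{u}} (p : P ⟶ Spec (CommRingCat.of R)) [Smooth p]
    {A : Type u} [CommRing A] [IsLocalRing A] (ξ : Spec (CommRingCat.of A) ⟶ P) (hξ : IsStrictLoc ξ)
    (hs : (ξ ≫ p).base (closedPoint A) = closedPoint R) (m : ℕ) (N : ℕ) (hN : IsUnit (N : R)) (q : ℕ)
    (hq : 2 * m < q) :
    Subsingleton (EtCoh.H (CohB1.ProjSpaceOver m (pullback (ξ ≫ p) (VanCyc.toS R Ω)))
      (EtCoh.const _ (ZMod N)) q) := by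
  obtain ⟨hens, hsep⟩ := hR
  have hσ : IsStrictLoc (𝟙 (Spec (CommRingCat.of R))) := isStrictLoc_id R
  have hla : EtRest.IsLocallyAcyclic p := by
    intro x RS RX _ _ _ _ _ _ _ _ _ _ _ _ hc Ω _ _ _ n hn
    exact ⟨fun q => (Groth.Agent.S0712.result p x RS RX hc Ω n hn q).1,
      (Groth.Agent.S0712.result p x RS RX hc Ω n hn 0).2⟩
  let a : R →+* A := (Spec.preimage (ξ ≫ p)).hom
  have ha : Spec.map (CommRingCat.ofHom a) = ξ ≫ p := Spec.map_preimage _
  have hloc : IsLocalHom a := by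
    rw [IsLocalRing.isLocalHom_iff_comap_closedPoint]
    rw [← ha] at hs
    exact hs
  have hNA : (N : ResidueField A) ≠ 0 := by
    have h1 : IsUnit ((residue A) (a (N : R))) := (hN.map a).map (residue A)
    rw [map_natCast, map_natCast] at h1
    exact h1.ne_zero
  have hNΩ : (N : Ω) ≠ 0 := by
    have h1 := hN.map (algebraMap R Ω)
    rw [map_natCast] at h1
    exact h1.ne_zero
  have hpt : HPt (pullback (ξ ≫ p) (VanCyc.toS R Ω)) N := by
    rw [← ha]
    exact Groth.Agent.Sga4h.LAcyc.hpt_of_isLocallyAcyclic hla hσ hξ a (by rw [Category.comp_id]; exact ha)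
      (algebraMap R Ω) N hNA
  exact subsingleton_H_projSpace (pullback.snd (ξ ≫ p) (VanCyc.toS R Ω)) N hNΩ hpt.1 m q hq

end Groth.Agent.Vancyc.H431.ProjVan
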